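import Cfsg.Agent.L0.CosetChain

/-! Generated coset table certificate. -/

set_option autoImplicit false
set_option maxRecDepth 100000

namespace Cfsg.Agent.L0.HSPc6

noncomputable def t0 : BT := .leaf (nat_lit 0xeaaaaa6aaaa6a16ca24b90a00000001937313270dc44291d4722120000000238a5b989546602a14cdc2e400000004264288d3c4e80400e1254c0000000001102409024090240902000)

noncomputable def tree : BT := t0

noncomputable def row : ℕ → ℕ := rowOf tree (nat_lit 3) (nat_lit 7) (nat_lit 123) (nat_lit 0x7ffffffffffffffffffffffffffffff)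

noncomputable def cols : List Col := [⟨nat_lit 13, nat_lit 1, [([nat_lit 33, nat_lit 13, nat_lit 33], nat_lit 0), ([nat_lit 23, nat_lit 13, nat_lit 23], nat_lit 0), ([nat_lit 83, nat_lit 63, nat_lit 73, nat_lit 53, nat_lit 83], nat_lit 0)]⟩,
  ⟨nat_lit 23, nat_lit 1, [([nat_lit 23], nat_lit 0), ([nat_lit 33, nat_lit 23, nat_lit 33], nat_lit 0)]⟩,
  ⟨nat_lit 33, nat_lit 1, [([nat_lit 33], nat_lit 0)]⟩,
  ⟨nat_lit 43, nat_lit 1, [([nat_lit 23, nat_lit 43, nat_lit 23], nat_lit 0), ([nat_lit 33, nat_lit 43, nat_lit 33], nat_lit 0), ([nat_lit 53, nat_lit 13, nat_lit 63], nat_lit 0)]⟩,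
  ⟨nat_lit 53, nat_lit 1, [([nat_lit 63], nat_lit 0), ([nat_lit 53, nat_lit 53], nat_lit 0)]⟩,
  ⟨nat_lit 63, nat_lit 1, [([nat_lit 23, nat_lit 53, nat_lit 33], nat_lit 0), ([nat_lit 53], nat_lit 0), ([nat_lit 83, nat_lit 33, nat_lit 83, nat_lit 23, nat_lit 83, nat_lit 13], nat_lit 0)]⟩,
  ⟨nat_lit 73, nat_lit 1, [([nat_lit 23, nat_lit 73, nat_lit 13, nat_lit 23], nat_lit 0), ([nat_lit 33, nat_lit 43, nat_lit 73, nat_lit 33], nat_lit 0), ([nat_lit 53, nat_lit 83, nat_lit 13, nat_lit 83, nat_lit 63], nat_lit 0)]⟩,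
  ⟨nat_lit 83, nat_lit 0, [([nat_lit 83], nat_lit 0), ([nat_lit 23, nat_lit 83, nat_lit 13, nat_lit 63, nat_lit 83, nat_lit 33], nat_lit 0)]⟩]

noncomputable def erots : List (List ℕ × ℕ) := []

noncomputable def gens : List ℕ := [nat_lit 13, nat_lit 23, nat_lit 33, nat_lit 43, nat_lit 53, nat_lit 63, nat_lit 73, nat_lit 83]

noncomputable def chk : ℕ → Bool := chkRow0 row (nat_lit 5) (nat_lit 0x7) (nat_lit 0x78) (nat_lit 7) (nat_lit 0x7) (nat_lit 0) (nat_lit 0x7) (nat_lit 3) (nat_lit 0xff) (nat_lit 0x1800) [] cols gens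

theorem b0 : allR chk 3 0 = true := by decide +kernel

noncomputable def T : CT := ⟨row, nat_lit 5, nat_lit 5, nat_lit 0x7, nat_lit 0x78, nat_lit 7, nat_lit 0x7, nat_lit 0, nat_lit 0x7, nat_lit 3, nat_lit 0xff, nat_lit 0x1800, nat_lit 123, nat_lit 123, nat_lit 0, nat_lit 7, [], cols, erots, gens⟩

theorem all : ∀ c < 5, chk c = true := fun c hc =>
  allR_glue (d := 3) (n := 1) (forall_lt_succ' forall_lt_zero' b0) c (lt_of_lt_of_le hc (by norm_num))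

/-- the relators used -/
def R : List (List ℕ) := [[nat_lit 1, nat_lit 1],
  [nat_lit 0, nat_lit 1, nat_lit 0, nat_lit 1],
  [nat_lit 2, nat_lit 2],
  [nat_lit 0, nat_lit 2, nat_lit 0, nat_lit 2],
  [nat_lit 1, nat_lit 2, nat_lit 1, nat_lit 2],
  [nat_lit 1, nat_lit 3, nat_lit 1, nat_lit 3],
  [nat_lit 2, nat_lit 3, nat_lit 2, nat_lit 3],
  [nat_lit 4, nat_lit 5],
  [nat_lit 4, nat_lit 4, nat_lit 4],
  [nat_lit 0, nat_lit 5, nat_lit 3, nat_lit 4],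
  [nat_lit 1, nat_lit 4, nat_lit 2, nat_lit 5],
  [nat_lit 0, nat_lit 1, nat_lit 6, nat_lit 1, nat_lit 6],
  [nat_lit 2, nat_lit 3, nat_lit 6, nat_lit 2, nat_lit 6],
  [nat_lit 7, nat_lit 7],
  [nat_lit 0, nat_lit 7, nat_lit 5, nat_lit 6, nat_lit 4, nat_lit 7],
  [nat_lit 0, nat_lit 5, nat_lit 7, nat_lit 2, nat_lit 7, nat_lit 1, nat_lit 7]]

theorem cert : Cert T (R.map fun r => (r, 0)) ([0, 1, 2, 3, 4, 5, 6].map fun y => (y, 0)) 13 10 [0, 1, 2, 3, 4, 5, 6, 7] :=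
  ⟨by decide +kernel, ⟨[[(3, 0), (1, 0), (14, 0)], [(0, 0), (4, 0)], [(2, 0)], [(5, 1), (6, 1), (9, 2)], [(7, 0), (8, 0)], [(10, 3), (7, 1), (15, 1)], [(11, 2), (12, 4), (14, 3)], [(13, 0), (15, 4)]], [], by decide +kernel⟩, by decide +kernel, Or.inl ⟨rfl, all⟩⟩

theorem bound {Γ : Type*} [Group Γ] {x : ℕ → Γ} (hR : ∀ r ∈ R, ev x r = 1) {n : ℕ}
    (h : CardLe x [0, 1, 2, 3, 4, 5, 6] n) : CardLe x [0, 1, 2, 3, 4, 5, 6, 7] (5 * n) :=
  cert.cardLe rfl hR h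

end Cfsg.Agent.L0.HSPc6
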