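import Cfsg.Agent.L0.CosetChain

/-! Generated coset table certificate. -/

set_option autoImplicit false
set_option maxRecDepth 100000

namespace Cfsg.Agent.L0.HSPc7

noncomputable def t0 : BT := .node (.node (.leaf (nat_lit 0xda420852388e524d581a27231800448123101800000000040811924b64dc4b3c924000f001ce82dbc880000000270a482c852906520468518ca33106628cd6c400000003b662150e218811984642ca6495c92a925698200000000834902243500034006000b001400240042790800000006e8c0039022000c0015c81b0e38206c48d3504000000020420010001984220c50308c51488251c46200000000000021002200440088011002200440088010000)) (.leaf (nat_lit 0x1cee492a52c963a1cb238e440b5238241385cc000000016361b3438a68bc8a4aac5353e240b0cd941f58000000040ace29947436e64e4ca3a23ee385e50d64428000000057e46c48e4a94d526285254814984a23a90b90000000033b1459e67c497522ab34dc4850814184983e7))) (.leaf (nat_lit 0x813930e26184b20944934a45965254987c883000000004a34978aa8a454e6bb9926102728a68bc2171800000002a2aabc0d37130f250e4a44a099027349b07cc0000000226f5318c4348361024431200554e5926e6b6300000000a4a11ad55e04090c26926f32d000508d534c180000000004d8f3222725a286a881212f023da489d9e8c00000004794642495791cb35a26cc081210724318cb86000000030442254c624d381168235a0048812107163e3))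

noncomputable def tree : BT := t0

noncomputable def row : ℕ → ℕ := rowOf tree (nat_lit 3) (nat_lit 7) (nat_lit 181) (nat_lit 0x1fffffffffffffffffffffffffffffffffffffffffffff)

noncomputable def cols : List Col := [⟨nat_lit 16, nat_lit 1, [([nat_lit 16], nat_lit 0), ([nat_lit 31, nat_lit 16, nat_lit 31], nat_lit 0), ([nat_lit 46, nat_lit 16, nat_lit 46], nat_lit 0), ([nat_lit 91, nat_lit 61, nat_lit 76], nat_lit 0), ([nat_lit 31, nat_lit 106, nat_lit 31, nat_lit 106], nat_lit 0), ([nat_lit 121, nat_lit 91, nat_lit 106, nat_lit 76, nat_lit 121], nat_lit 0)]⟩,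
  ⟨nat_lit 31, nat_lit 1, [([nat_lit 31], nat_lit 0), ([nat_lit 46, nat_lit 31, nat_lit 46], nat_lit 0), ([nat_lit 16, nat_lit 31, nat_lit 16], nat_lit 0), ([nat_lit 61, nat_lit 31, nat_lit 61], nat_lit 0), ([nat_lit 76, nat_lit 46, nat_lit 91], nat_lit 0), ([nat_lit 91, nat_lit 31, nat_lit 46, nat_lit 76], nat_lit 0), ([nat_lit 106, nat_lit 16, nat_lit 31, nat_lit 106], nat_lit 0), ([nat_lit 136, nat_lit 121, nat_lit 31, nat_lit 136, nat_lit 121, nat_lit 136, nat_lit 31, nat_lit 121], nat_lit 0)]⟩,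
  ⟨nat_lit 46, nat_lit 1, [([nat_lit 46], nat_lit 0), ([nat_lit 91, nat_lit 31, nat_lit 76], nat_lit 0), ([nat_lit 61, nat_lit 91, nat_lit 136, nat_lit 91, nat_lit 136], nat_lit 0), ([nat_lit 16, nat_lit 46, nat_lit 16], nat_lit 0), ([nat_lit 106, nat_lit 46, nat_lit 61, nat_lit 106], nat_lit 0)]⟩,
  ⟨nat_lit 61, nat_lit 1, [([nat_lit 61], nat_lit 0), ([nat_lit 16, nat_lit 61, nat_lit 16], nat_lit 0), ([nat_lit 76, nat_lit 16, nat_lit 91], nat_lit 0), ([nat_lit 31, nat_lit 61, nat_lit 31], nat_lit 0), ([nat_lit 46, nat_lit 61, nat_lit 46], nat_lit 0), ([nat_lit 106, nat_lit 46, nat_lit 106, nat_lit 46], nat_lit 0), ([nat_lit 91, nat_lit 136, nat_lit 91, nat_lit 136, nat_lit 46], nat_lit 0)]⟩,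
  ⟨nat_lit 76, nat_lit 1, [([nat_lit 91], nat_lit 0), ([nat_lit 76, nat_lit 76], nat_lit 0), ([nat_lit 16, nat_lit 91, nat_lit 61], nat_lit 0)]⟩,
  ⟨nat_lit 91, nat_lit 1, [([nat_lit 76], nat_lit 0), ([nat_lit 136, nat_lit 46, nat_lit 61, nat_lit 91, nat_lit 136], nat_lit 0), ([nat_lit 31, nat_lit 76, nat_lit 46], nat_lit 0), ([nat_lit 61, nat_lit 76, nat_lit 16], nat_lit 0), ([nat_lit 16, nat_lit 61, nat_lit 76, nat_lit 61], nat_lit 0), ([nat_lit 121, nat_lit 46, nat_lit 121, nat_lit 31, nat_lit 121, nat_lit 16], nat_lit 0)]⟩,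
  ⟨nat_lit 106, nat_lit 1, [([nat_lit 106], nat_lit 0), ([nat_lit 31, nat_lit 106, nat_lit 16, nat_lit 31], nat_lit 0), ([nat_lit 16, nat_lit 31, nat_lit 106, nat_lit 31], nat_lit 0), ([nat_lit 46, nat_lit 106, nat_lit 46, nat_lit 61], nat_lit 0), ([nat_lit 76, nat_lit 121, nat_lit 16, nat_lit 121, nat_lit 91], nat_lit 0), ([nat_lit 76, nat_lit 106, nat_lit 76, nat_lit 106, nat_lit 76], nat_lit 0)]⟩,
  ⟨nat_lit 121, nat_lit 1, [([nat_lit 121], nat_lit 0), ([nat_lit 31, nat_lit 121, nat_lit 16, nat_lit 91, nat_lit 121, nat_lit 46], nat_lit 0), ([nat_lit 91, nat_lit 106, nat_lit 76, nat_lit 121, nat_lit 16], nat_lit 0), ([nat_lit 46, nat_lit 121, nat_lit 31, nat_lit 121, nat_lit 16, nat_lit 91], nat_lit 0), ([nat_lit 16, nat_lit 91, nat_lit 121, nat_lit 46, nat_lit 121, nat_lit 31], nat_lit 0)]⟩,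
  ⟨nat_lit 136, nat_lit 0, [([nat_lit 136], nat_lit 0), ([nat_lit 91, nat_lit 136, nat_lit 46, nat_lit 61, nat_lit 91], nat_lit 0), ([nat_lit 46, nat_lit 61, nat_lit 91, nat_lit 136, nat_lit 91], nat_lit 0), ([nat_lit 121, nat_lit 31, nat_lit 136, nat_lit 121, nat_lit 136, nat_lit 31, nat_lit 121, nat_lit 31], nat_lit 0), ([nat_lit 121, nat_lit 136, nat_lit 31, nat_lit 121, nat_lit 31, nat_lit 136, nat_lit 121, nat_lit 31], nat_lit 0), ([nat_lit 31, nat_lit 121, nat_lit 31, nat_lit 136, nat_lit 121, nat_lit 31, nat_lit 136, nat_lit 121], nat_lit 0)]⟩]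

noncomputable def erots : List (List ℕ × ℕ) := []

noncomputable def gens : List ℕ := [nat_lit 16, nat_lit 31, nat_lit 46, nat_lit 61, nat_lit 76, nat_lit 91, nat_lit 106, nat_lit 121, nat_lit 136]

noncomputable def chk : ℕ → Bool := chkRow0 row (nat_lit 21) (nat_lit 0x1f) (nat_lit 0x7e0) (nat_lit 11) (nat_lit 0xf) (nat_lit 0) (nat_lit 0x1f) (nat_lit 5) (nat_lit 0xff) (nat_lit 0xe000) [] cols gens

theorem b0 : allR chk 5 0 = true := by decide +kernel

noncomputable def T : CT := ⟨row, nat_lit 21, nat_lit 21, nat_lit 0x1f, nat_lit 0x7e0, nat_lit 11, nat_lit 0xf, nat_lit 0, nat_lit 0x1f, nat_lit 5, nat_lit 0xff, nat_lit 0xe000, nat_lit 181, nat_lit 181, nat_lit 0, nat_lit 9, [], cols, erots, gens⟩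

theorem all : ∀ c < 21, chk c = true := fun c hc =>
  allR_glue (d := 5) (n := 1) (forall_lt_succ' forall_lt_zero' b0) c (lt_of_lt_of_le hc (by norm_num))

/-- the relators used -/
def R : List (List ℕ) := [[nat_lit 0, nat_lit 0],
  [nat_lit 1, nat_lit 1],
  [nat_lit 0, nat_lit 1, nat_lit 0, nat_lit 1],
  [nat_lit 2, nat_lit 2],
  [nat_lit 0, nat_lit 2, nat_lit 0, nat_lit 2],
  [nat_lit 1, nat_lit 2, nat_lit 1, nat_lit 2],
  [nat_lit 3, nat_lit 3],
  [nat_lit 0, nat_lit 3, nat_lit 0, nat_lit 3],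
  [nat_lit 1, nat_lit 3, nat_lit 1, nat_lit 3],
  [nat_lit 2, nat_lit 3, nat_lit 2, nat_lit 3],
  [nat_lit 4, nat_lit 5],
  [nat_lit 4, nat_lit 4, nat_lit 4],
  [nat_lit 0, nat_lit 5, nat_lit 3, nat_lit 4],
  [nat_lit 1, nat_lit 4, nat_lit 2, nat_lit 5],
  [nat_lit 0, nat_lit 3, nat_lit 4, nat_lit 3, nat_lit 5],
  [nat_lit 1, nat_lit 2, nat_lit 4, nat_lit 1, nat_lit 5],
  [nat_lit 6, nat_lit 6],
  [nat_lit 0, nat_lit 1, nat_lit 6, nat_lit 1, nat_lit 6],
  [nat_lit 2, nat_lit 3, nat_lit 6, nat_lit 2, nat_lit 6],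
  [nat_lit 4, nat_lit 6, nat_lit 4, nat_lit 6, nat_lit 4, nat_lit 6],
  [nat_lit 7, nat_lit 7],
  [nat_lit 0, nat_lit 7, nat_lit 5, nat_lit 6, nat_lit 4, nat_lit 7],
  [nat_lit 0, nat_lit 5, nat_lit 7, nat_lit 2, nat_lit 7, nat_lit 1, nat_lit 7],
  [nat_lit 8, nat_lit 8],
  [nat_lit 2, nat_lit 3, nat_lit 5, nat_lit 8, nat_lit 5, nat_lit 8],
  [nat_lit 1, nat_lit 7, nat_lit 1, nat_lit 8, nat_lit 7, nat_lit 1, nat_lit 8, nat_lit 7, nat_lit 8]]

theorem cert : Cert T (R.map fun r => (r, 0)) ([0, 1, 2, 3, 4, 5, 6, 7].map fun y => (y, 0)) 16 15 [0, 1, 2, 3, 4, 5, 6, 7, 8] :=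
  ⟨by decide +kernel, ⟨[[(0, 0), (2, 0), (4, 0), (12, 0), (17, 0), (21, 0)], [(1, 0), (5, 0), (2, 1), (8, 0), (13, 0), (15, 3), (17, 3), (25, 2)], [(3, 0), (13, 2), (24, 0), (4, 1), (18, 3)], [(6, 0), (7, 1), (12, 2), (8, 1), (9, 1), (18, 1), (24, 1)], [(10, 0), (11, 0), (12, 3)], [(10, 1), (24, 4), (13, 3), (12, 1), (14, 4), (22, 1)], [(16, 0), (17, 2), (17, 4), (18, 2), (21, 3), (19, 1)], [(20, 0), (22, 4), (21, 1), (22, 2), (22, 6)], [(23, 0), (24, 3), (24, 5), (25, 3), (25, 6), (25, 8)]], [], by decide +kernel⟩, by decide +kernel, Or.inl ⟨rfl, all⟩⟩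

theorem bound {Γ : Type*} [Group Γ] {x : ℕ → Γ} (hR : ∀ r ∈ R, ev x r = 1) {n : ℕ}
    (h : CardLe x [0, 1, 2, 3, 4, 5, 6, 7] n) : CardLe x [0, 1, 2, 3, 4, 5, 6, 7, 8] (21 * n) :=
  cert.cardLe rfl hR h

end Cfsg.Agent.L0.HSPc7
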