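import Cfsg.Agent.L0.CosetChain

/-! Generated coset table certificate. -/

set_option autoImplicit false
set_option maxRecDepth 100000

namespace Cfsg.Agent.L0.HSPc8

noncomputable def t0 : BT := .node (.node (.leaf (nat_lit 0x4dc947411432452419c811106d2194442c88725b08000508e4cc89f891cf2044612087538ed41d844bd260400013a334264734ce3122922de4088969116f20d88f4200011c811ee448a4b494858013002440888a7106b45c100000044cd200102114420cc46800f001c408883521f08000570c46290941883001ae190006000b0014408908040001021408400258210008000e00180028004000665c0000000108011002200440088011002200440088010000)) (.leaf (nat_lit 0x1c36206906d956b223624acea58d3b49d6356d6226000081721f5391e5051228a3d0382a7255e0a9c9592ed0001105000b102a57eae7508fa1a1452a8a5518da4794800077a648995a99b8b204a652d1a5a34c369a6c49a6100001b48360e8bc8d5292f265a4409595322692666cf48000081213d0778e4f409e8147568226fc61f8c41172e3))) (.leaf (nat_lit 0x4e951d8902467624fd51d89c305460a6c18583791800044566934a5a99a7328c47a48122229328ca41d9e8c0000015338a46b1c96992a32d888a4812192541d0cb860000d46926f334c453885210233090441c9b999e96b620000ce30d34998e43184639455102326e6441d42333d10000249ec6ad83593b322e644949b9902361d081159708000138972c60050c3210cc229ca31e05410237088c7c400011b5128c204488218e79a06249c493c949120d4f21))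

noncomputable def tree : BT := t0

noncomputable def row : ℕ → ℕ := rowOf tree (nat_lit 3) (nat_lit 7) (nat_lit 181) (nat_lit 0x1fffffffffffffffffffffffffffffffffffffffffffff)

noncomputable def cols : List Col := [⟨nat_lit 16, nat_lit 1, [([nat_lit 16], nat_lit 0), ([nat_lit 91, nat_lit 61, nat_lit 76], nat_lit 0), ([nat_lit 46, nat_lit 16, nat_lit 46], nat_lit 0), ([nat_lit 61, nat_lit 16, nat_lit 61], nat_lit 0), ([nat_lit 121, nat_lit 91, nat_lit 106, nat_lit 76, nat_lit 121], nat_lit 0), ([nat_lit 31, nat_lit 16, nat_lit 31], nat_lit 0), ([nat_lit 31, nat_lit 106, nat_lit 31, nat_lit 106], nat_lit 0)]⟩,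
  ⟨nat_lit 31, nat_lit 1, [([nat_lit 31], nat_lit 0), ([nat_lit 16, nat_lit 31, nat_lit 16], nat_lit 0), ([nat_lit 61, nat_lit 31, nat_lit 61], nat_lit 0), ([nat_lit 121, nat_lit 16, nat_lit 91, nat_lit 121, nat_lit 46, nat_lit 121], nat_lit 0), ([nat_lit 46, nat_lit 31, nat_lit 46], nat_lit 0), ([nat_lit 76, nat_lit 46, nat_lit 91], nat_lit 0), ([nat_lit 91, nat_lit 31, nat_lit 46, nat_lit 76], nat_lit 0), ([nat_lit 136, nat_lit 121, nat_lit 136, nat_lit 31, nat_lit 121, nat_lit 31, nat_lit 136, nat_lit 121], nat_lit 0)]⟩,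
  ⟨nat_lit 46, nat_lit 1, [([nat_lit 46], nat_lit 0), ([nat_lit 91, nat_lit 31, nat_lit 76], nat_lit 0), ([nat_lit 16, nat_lit 46, nat_lit 16], nat_lit 0), ([nat_lit 121, nat_lit 31, nat_lit 121, nat_lit 16, nat_lit 91, nat_lit 121], nat_lit 0), ([nat_lit 31, nat_lit 46, nat_lit 31], nat_lit 0), ([nat_lit 61, nat_lit 46, nat_lit 61], nat_lit 0), ([nat_lit 76, nat_lit 31, nat_lit 91, nat_lit 31], nat_lit 0)]⟩,
  ⟨nat_lit 61, nat_lit 1, [([nat_lit 61], nat_lit 0), ([nat_lit 76, nat_lit 16, nat_lit 91], nat_lit 0), ([nat_lit 16, nat_lit 61, nat_lit 16], nat_lit 0), ([nat_lit 91, nat_lit 16, nat_lit 61, nat_lit 76], nat_lit 0), ([nat_lit 106, nat_lit 46, nat_lit 106, nat_lit 46], nat_lit 0), ([nat_lit 91, nat_lit 136, nat_lit 91, nat_lit 136, nat_lit 46], nat_lit 0)]⟩,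
  ⟨nat_lit 76, nat_lit 1, [([nat_lit 91], nat_lit 0), ([nat_lit 76, nat_lit 76], nat_lit 0), ([nat_lit 151, nat_lit 91, nat_lit 151, nat_lit 46, nat_lit 61, nat_lit 151], nat_lit 0), ([nat_lit 16, nat_lit 91, nat_lit 61], nat_lit 0), ([nat_lit 46, nat_lit 91, nat_lit 31], nat_lit 0), ([nat_lit 31, nat_lit 151, nat_lit 136, nat_lit 151, nat_lit 136, nat_lit 16], nat_lit 0)]⟩,
  ⟨nat_lit 91, nat_lit 1, [([nat_lit 76], nat_lit 0), ([nat_lit 61, nat_lit 76, nat_lit 16], nat_lit 0), ([nat_lit 136, nat_lit 46, nat_lit 61, nat_lit 91, nat_lit 136], nat_lit 0), ([nat_lit 31, nat_lit 76, nat_lit 46], nat_lit 0), ([nat_lit 106, nat_lit 76, nat_lit 121, nat_lit 16, nat_lit 121], nat_lit 0), ([nat_lit 121, nat_lit 46, nat_lit 121, nat_lit 31, nat_lit 121, nat_lit 16], nat_lit 0)]⟩,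
  ⟨nat_lit 106, nat_lit 1, [([nat_lit 106], nat_lit 0), ([nat_lit 31, nat_lit 106, nat_lit 16, nat_lit 31], nat_lit 0), ([nat_lit 76, nat_lit 106, nat_lit 76, nat_lit 106, nat_lit 76], nat_lit 0), ([nat_lit 76, nat_lit 121, nat_lit 16, nat_lit 121, nat_lit 91], nat_lit 0), ([nat_lit 151, nat_lit 16, nat_lit 46, nat_lit 121, nat_lit 16, nat_lit 46, nat_lit 151], nat_lit 0), ([nat_lit 46, nat_lit 61, nat_lit 106, nat_lit 46], nat_lit 0)]⟩,
  ⟨nat_lit 121, nat_lit 1, [([nat_lit 121], nat_lit 0), ([nat_lit 16, nat_lit 121, nat_lit 91, nat_lit 106, nat_lit 76], nat_lit 0), ([nat_lit 31, nat_lit 121, nat_lit 16, nat_lit 91, nat_lit 121, nat_lit 46], nat_lit 0), ([nat_lit 91, nat_lit 106, nat_lit 76, nat_lit 121, nat_lit 16], nat_lit 0), ([nat_lit 16, nat_lit 46, nat_lit 151, nat_lit 106, nat_lit 151, nat_lit 16, nat_lit 46], nat_lit 0), ([nat_lit 31, nat_lit 136, nat_lit 121, nat_lit 136, nat_lit 31, nat_lit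 121, nat_lit 31, nat_lit 136], nat_lit 0), ([nat_lit 136, nat_lit 31, nat_lit 121, nat_lit 31, nat_lit 136, nat_lit 121, nat_lit 31, nat_lit 136], nat_lit 0)]⟩,
  ⟨nat_lit 136, nat_lit 1, [([nat_lit 136], nat_lit 0), ([nat_lit 91, nat_lit 136, nat_lit 46, nat_lit 61, nat_lit 91], nat_lit 0), ([nat_lit 151, nat_lit 136, nat_lit 16, nat_lit 76, nat_lit 31, nat_lit 151], nat_lit 0), ([nat_lit 46, nat_lit 61, nat_lit 91, nat_lit 136, nat_lit 91], nat_lit 0), ([nat_lit 121, nat_lit 31, nat_lit 136, nat_lit 121, nat_lit 136, nat_lit 31, nat_lit 121, nat_lit 31], nat_lit 0), ([nat_lit 121, nat_lit 136, nat_lit 31, nat_lit 121, nat_lit 31, nat_lit 136, nat_lit 121, nat_lit 31], nat_lit 0)]⟩,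
  ⟨nat_lit 151, nat_lit 0, [([nat_lit 151], nat_lit 0), ([nat_lit 136, nat_lit 16, nat_lit 76, nat_lit 31, nat_lit 151, nat_lit 136], nat_lit 0), ([nat_lit 16, nat_lit 46, nat_lit 121, nat_lit 16, nat_lit 46, nat_lit 151, nat_lit 106], nat_lit 0), ([nat_lit 91, nat_lit 151, nat_lit 46, nat_lit 61, nat_lit 151, nat_lit 76], nat_lit 0), ([nat_lit 136, nat_lit 151, nat_lit 136, nat_lit 16, nat_lit 76, nat_lit 31], nat_lit 0), ([nat_lit 76, nat_lit 151, nat_lit 91, nat_lit 151, nat_lit 46, nat_lit 61], nat_lit 0), ([nat_lit 106, nat_lit 151, nat_lit 16, nat_lit 46, nat_lit 121, nat_lit 16, nat_lit 46], nat_lit 0)]⟩]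

noncomputable def erots : List (List ℕ × ℕ) := []

noncomputable def gens : List ℕ := [nat_lit 16, nat_lit 31, nat_lit 46, nat_lit 61, nat_lit 76, nat_lit 91, nat_lit 106, nat_lit 121, nat_lit 136, nat_lit 151]

noncomputable def chk : ℕ → Bool := chkRow0 row (nat_lit 22) (nat_lit 0x1f) (nat_lit 0x7e0) (nat_lit 11) (nat_lit 0xf) (nat_lit 0) (nat_lit 0x1f) (nat_lit 5) (nat_lit 0xff) (nat_lit 0xe000) [] cols gens

theorem b0 : allR chk 5 0 = true := by decide +kernel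

noncomputable def T : CT := ⟨row, nat_lit 22, nat_lit 22, nat_lit 0x1f, nat_lit 0x7e0, nat_lit 11, nat_lit 0xf, nat_lit 0, nat_lit 0x1f, nat_lit 5, nat_lit 0xff, nat_lit 0xe000, nat_lit 181, nat_lit 181, nat_lit 0, nat_lit 9, [], cols, erots, gens⟩

theorem all : ∀ c < 22, chk c = true := fun c hc =>
  allR_glue (d := 5) (n := 1) (forall_lt_succ' forall_lt_zero' b0) c (lt_of_lt_of_le hc (by norm_num))

/-- the relators used -/
def R : List (List ℕ) := [[nat_lit 0, nat_lit 0],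
  [nat_lit 1, nat_lit 1],
  [nat_lit 0, nat_lit 1, nat_lit 0, nat_lit 1],
  [nat_lit 2, nat_lit 2],
  [nat_lit 0, nat_lit 2, nat_lit 0, nat_lit 2],
  [nat_lit 1, nat_lit 2, nat_lit 1, nat_lit 2],
  [nat_lit 3, nat_lit 3],
  [nat_lit 0, nat_lit 3, nat_lit 0, nat_lit 3],
  [nat_lit 1, nat_lit 3, nat_lit 1, nat_lit 3],
  [nat_lit 2, nat_lit 3, nat_lit 2, nat_lit 3],
  [nat_lit 4, nat_lit 5],
  [nat_lit 4, nat_lit 4, nat_lit 4],
  [nat_lit 0, nat_lit 5, nat_lit 3, nat_lit 4],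
  [nat_lit 1, nat_lit 4, nat_lit 2, nat_lit 5],
  [nat_lit 0, nat_lit 3, nat_lit 4, nat_lit 3, nat_lit 5],
  [nat_lit 1, nat_lit 2, nat_lit 4, nat_lit 1, nat_lit 5],
  [nat_lit 6, nat_lit 6],
  [nat_lit 0, nat_lit 1, nat_lit 6, nat_lit 1, nat_lit 6],
  [nat_lit 2, nat_lit 3, nat_lit 6, nat_lit 2, nat_lit 6],
  [nat_lit 4, nat_lit 6, nat_lit 4, nat_lit 6, nat_lit 4, nat_lit 6],
  [nat_lit 7, nat_lit 7],
  [nat_lit 0, nat_lit 7, nat_lit 5, nat_lit 6, nat_lit 4, nat_lit 7],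
  [nat_lit 0, nat_lit 5, nat_lit 7, nat_lit 2, nat_lit 7, nat_lit 1, nat_lit 7],
  [nat_lit 8, nat_lit 8],
  [nat_lit 2, nat_lit 3, nat_lit 5, nat_lit 8, nat_lit 5, nat_lit 8],
  [nat_lit 1, nat_lit 7, nat_lit 1, nat_lit 8, nat_lit 7, nat_lit 1, nat_lit 8, nat_lit 7, nat_lit 8],
  [nat_lit 9, nat_lit 9],
  [nat_lit 0, nat_lit 4, nat_lit 1, nat_lit 9, nat_lit 8, nat_lit 9, nat_lit 8],
  [nat_lit 2, nat_lit 3, nat_lit 9, nat_lit 4, nat_lit 9, nat_lit 5, nat_lit 9],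
  [nat_lit 0, nat_lit 2, nat_lit 7, nat_lit 0, nat_lit 2, nat_lit 9, nat_lit 6, nat_lit 9]]

theorem cert : Cert T (R.map fun r => (r, 0)) ([0, 1, 2, 3, 4, 5, 6, 7, 8].map fun y => (y, 0)) 16 15 [0, 1, 2, 3, 4, 5, 6, 7, 8, 9] :=
  ⟨by decide +kernel, ⟨[[(0, 0), (12, 0), (4, 0), (7, 0), (21, 0), (2, 0), (17, 0)], [(1, 0), (2, 1), (8, 0), (22, 5), (5, 0), (13, 0), (15, 3), (25, 5)], [(3, 0), (13, 2), (4, 1), (22, 3), (5, 1), (9, 0), (15, 1)], [(6, 0), (12, 2), (7, 1), (14, 3), (18, 1), (24, 1)], [(10, 0), (11, 0), (28, 3), (12, 3), (13, 1), (27, 1)], [(10, 1), (12, 1), (24, 4), (13, 3), (21, 2), (22, 1)], [(16, 0), (17, 2), (19, 1), (21, 3), (29, 6), (18, 4)], [(20, 0), (21, 5), (22, 4), (21, 1), (29, 2), (25, 4), (25, 7)], [(23, 0), (24, 3), (27, 4), (24, 5), (25, 3), (25, 6)], [(26, 0), (27, 5), (29, 7), (28, 4), (27, 3), (28, 2), (29, 5)]], [], by decide +kernel⟩, by decide +kernel, Or.inl ⟨rfl, all⟩⟩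

theorem bound {Γ : Type*} [Group Γ] {x : ℕ → Γ} (hR : ∀ r ∈ R, ev x r = 1) {n : ℕ}
    (h : CardLe x [0, 1, 2, 3, 4, 5, 6, 7, 8] n) : CardLe x [0, 1, 2, 3, 4, 5, 6, 7, 8, 9] (22 * n) :=
  cert.cardLe rfl hR h

end Cfsg.Agent.L0.HSPc8
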