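import Cfsg.Agent.L0.CosetChain

/-! Generated coset table certificate. -/

set_option autoImplicit false
set_option maxRecDepth 100000

namespace Cfsg.Agent.L0.HSPc9

noncomputable def t0 : BT := .node (.node (.node (.node (.leaf (nat_lit 0x21e15078800054808322848838a8242c881121638881121230e44111a1a000a0002703031010600090002282c810d20a102a860a6fe0a8d0420208840421a1c001021019038620c0f8206b0619c3042b502a38411b1600078001c40410001a00063841441051050e41c393f8123619440450e18000b0002a4283408088082a0612818420e189240a02060004a060600040000ec0c11060961431830660c19010442604808100018c10240408000520a1082030001141024040800031c700000108002200088002200088002200088002200088002200080000)) (.leaf (nat_lit 0x969249a5236d20a0c4202b09cd02915899b6c64e55348560e59fd5b428f1023b448e40551bf82ede013f7c4f55a39606f6143b82d22a4005a366ad18b4585009749248c880aa2592615348531a164666d52002c93ea24c5793682405492b928a56aa7546a62aa15c89d533fa8372b480a876edda04828940df3627734a25178512603f28d59ad5393d516edb1015050e11bb866dd593b784f616b778ce5593b7cd469e20c247ec51dc23850d0dc22070480a86790c9e3127d1e5cbb66d4e002c2bd5a4dddbb58a50239015060a13356a8bdeb3b764f23b2da7)))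 (.node (.leaf (nat_lit 0x4790c00440010c809726f00004200104004075cf894ba256f1644b19440674e9012c001f9307268939234f0a1212846495612158b465495ba656e0003e20254003d6509894a635ac090ab000f0913a59128aa1100076a99100074404a9215c4799ba04a48169215a48d7abf9433a7c9229202500039000e0d223256b094a7256b09423a528d68c99a6464049b9f3c001b8006caa56125488a962a74e89d212a48b6a4894a5000d493a52024c93a1000d093afa4aba4ea2d4aab11ae59124675099940404900066699118e2648ce92538850e1a05266ce2d191)) (.leaf (nat_lit 0x3c190eee42038eaee44c590ede42b99230644bf932f643c39268f12dfc6d731800c8d6b1101ae56b1bd9c6f5f1b56c6b131ac5c70ff592d612bf78aee12b78cee4f4b770eeda4a164eadf3b58480cf8139c56f11019897311dbbf1670954b6b4a795bb975ee95bc51669c5acb)))) (.node (.node (.leaf (nat_lit 0x236324e16000a4cd98332390b8e42640808b73234cb9272a3512451922e468e1011400143203e644d9143246cf91826468fd1a2e946248a1123a600027202254f16540688f943405bc51423a6ac4964911063c79901e40440004c001299b384407c1d2a474d99f4047cea518762440808700090901a520520f1634469909421658929e628512d4311c3800119010e00111a026644e90f430647c172e4507a1f26946198e12420480021520450988206448087310348a0b230608a0b46d0d04cb10f2000101112465869010e608920f1063c618f10634722d86))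 (.leaf (nat_lit 0x20305e7cf36f509ed92b351a5d43a95e675857f611fd868761f1e010181546d1c5ae55f0000c6556c5d3a8756bac2ae90ebb33aef8efca3dc88b58a4d229334e4d248f212250202fce3d638f45e2c47497c405e951a66c2aa43aa91aab44aa516a9c6aab0eaa39aacd6abe3bc202eca8ce2716122cf4b160aa5729960e6d457d51115468551f1dd10171b42a9bda6552f44fa654efc4cb2d3a62ac9c8f6795ac2f8edca25eb6721245657ce0a556260fc80b837d34a24d87d35215076d6e4fed9bd8a8ee69baa2d15b93872405b9c3886ee8948ac4e9fbb6b6))) (.leaf (nat_lit 0x14c9626778e09fd220290005225cfdd839652d95538558d99fd192d544d9e938884051946a20028ab6726e68139a000286419ad2288004f2790ddeb697ad880a327d349fc4465209538556d896b867f444b1e101444ade1a9524d15b29624a5d936824a5d12e7da9d5b5aa10013955bc2651994ae440d094af20288d2b32571a93b474ed19b50aa3660026b23664050ba266e7529a15c499a1239328999a166d2280004c2572494ae350c880a0246a8d1c644cc8d32f540bd122d67f3e68989408448581013e8c9e12c764a9a930786ee139f604ca02c89e)))) (.node (.node (.node (.leaf (nat_lit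 0x2265307115367c878d202188a186163886073181d440a51428dfc29102a444a9010a44ce21f1e63ca9073846898003f84c999e1e746124d8e00078001d202148d18218408c1821c32450821c30871139108c64391918000e28e2045c890318404290924468c39016458c1b684434618c0d0006cc50c7282c808530436468e22046468e31020d6c20003486828003240421151844c411314000c213244446993247220e088a61c28001751e2880845242e430820a15818521240859037f07450490106e1c48002ca10490812a1c4989128244d8412a1449da82)) (.leaf (nat_lit 0x776fea0c047afd5d5038710a2d6671209d37870dc80b728749c95b1016c542c1be9e51aa15dc454f094eb65430140b44fa9800c4f8ed480b49a1509a5a45738a74b2a175a64a29d2c96d326d68a85d7c76653f0101664f289c8acaedfc3a88af5b13fa470e913fa4509bbdab2202c800613532924db69f30a95e2a380a7d35592c006025d71f1d89015e002f932b28b65a4d9cd2a594b96736712d98002f32a94d8eb880ae4a528954c47f28aadd29b38a95d00174005c0016c95cb6c75a4d642aa648b24b2b78cb631015a6aa2b2b8c8899b249268e4b2dac))) (.leaf (nat_lit 0x540c1d730640c4809d268e8953d258e897262751c9031268f5644e00096eb9cc308a6d1e9013a89911a86889179276448592a24aafe70004a64eb95432254d0809c244cdd02524c89932e24514922257f364ea213e824a9512836404d92a8a0024aa25ac7d2aa04a49592bf9a20265532c3046a562c0012115242548c95a33549112276409d71cc12c7c4d234a974404cbb36a4c9e138868f23ca04c4ea19286ab22615637c48e954ad0011c809900119d13225115942a24c88944557f3066cd9a348404c12a6a002299d3e48901273248cc9214267ccad197)))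 (.node (.node (.leaf (nat_lit 0x22a9c8d212024688a0000ca90a92407d1020242749015a3c6d68c811e48674f91c2000189212f27d011e52c68b9011ec64bc1f3e86e39929e20238902374a78d31e22279481e54c7ad11a64851131e4b51a670e91e4e4047000600017d224244899a03a681041937278aa518d3364ccc9720236890f000b8c30f23854d22122a87ca992388528c611c52668d9011969d68005a650c9122ec78da1c2a468e91f409462c808ba3a6881ac83e50cf9a24650909654268919e438598e9a4c714001619c3240458005600151932e454daa652e894916384814a518a)) (.leaf (nat_lit 0x49d362add2a16e2b573a965284c3a57967cf39d7880cc499660965a56be4065a55be5730958bc552cad2a655ad956c455aecd4b4f6b2921d25bd88e55c5a74cebdf2a78128cc59f68a7e02032d165b72594946e956c094ae9d6bad5252519553e71019456309d5bef3e73a4c948d5a695c29778a4da5a771a5da2b9892d6120329a55985b31cde4bbea2946d9cfc052a61cfb4b3679d3c2956f94ab2406512dbce4b2480c62a55cd9ce49170a85b2bd88a65c2a179dfcf46b38aadf7c78a4062a52b26c65a3cb0557014da674ef951c4b26d94bb853703e3c4))) (.leaf (nat_lit 0x15ca15068900a1c636ca2db3e2711c80a8a72ecda3d762c5925393ca04e9f13ea0405393c9aeb5c1afa4002b22f7e50621b9a2d2298d5ab772fc80a675ef8dabe57d1c9bc0272ec97a8e5ad51d436a34a002abb56e8bde9355e405312e752a58135744c2093580acd833fa5756d49634654d49649266c55d43462ad57b12710c80a6454a18952800a84052ab683305daa9770a1a9ab626e1f13a804f2093a84d6a91552624aa8952b20294d9b0556c0d6bd468f4d435750a2d0a669148ab9c92f5ecb9c90148abd39376e6de8931704ce43ad724c64348a3))))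

noncomputable def tree : BT := t0

noncomputable def row : ℕ → ℕ := rowOf tree (nat_lit 3) (nat_lit 7) (nat_lit 217) (nat_lit 0x1ffffffffffffffffffffffffffffffffffffffffffffffffffffff)

noncomputable def cols : List Col := [⟨nat_lit 19, nat_lit 1, [([nat_lit 19], nat_lit 0), ([nat_lit 109, nat_lit 73, nat_lit 91], nat_lit 0), ([nat_lit 37, nat_lit 19, nat_lit 37], nat_lit 0), ([nat_lit 37, nat_lit 127, nat_lit 37, nat_lit 127], nat_lit 0), ([nat_lit 199, nat_lit 19, nat_lit 199, nat_lit 19, nat_lit 199], nat_lit 0), ([nat_lit 73, nat_lit 19, nat_lit 73], nat_lit 0), ([nat_lit 55, nat_lit 19, nat_lit 55], nat_lit 0), ([nat_lit 73, nat_lit 91, nat_lit 73, nat_lit 109], nat_lit 0), ([nat_lit 91, nat_lit 37, nat_lit 181, nat_lit 163, nat_lit 181, nat_lit 163], nat_lit 0), ([nat_lit 145, nat_lit 109, nat_lit 127, nat_lit 91, nat_lit 145], nat_lit 0), ([nat_lit 109, nat_lit 145, nat_lit 55, nat_lit 145, nat_lit 37, nat_lit 145], nat_lit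 0), ([nat_lit 55, nat_lit 145, nat_lit 19, nat_lit 55, nat_lit 181, nat_lit 127, nat_lit 181], nat_lit 0)]⟩,
  ⟨nat_lit 37, nat_lit 1, [([nat_lit 37], nat_lit 0), ([nat_lit 19, nat_lit 37, nat_lit 19], nat_lit 0), ([nat_lit 199, nat_lit 181, nat_lit 37, nat_lit 55, nat_lit 181, nat_lit 199], nat_lit 0), ([nat_lit 127, nat_lit 19, nat_lit 37, nat_lit 127], nat_lit 0), ([nat_lit 55, nat_lit 37, nat_lit 55], nat_lit 0), ([nat_lit 145, nat_lit 19, nat_lit 109, nat_lit 145, nat_lit 55, nat_lit 145], nat_lit 0), ([nat_lit 91, nat_lit 55, nat_lit 109], nat_lit 0), ([nat_lit 109, nat_lit 37, nat_lit 55, nat_lit 91], nat_lit 0), ([nat_lit 73, nat_lit 37, nat_lit 73], nat_lit 0), ([nat_lit 181, nat_lit 199, nat_lit 55, nat_lit 199, nat_lit 37, nat_lit 181], nat_lit 0), ([nat_lit 163, nat_lit 145, nat_lit 163, nat_lit 37, nat_lit 145, nat_lit 37, nat_lit 163, nat_lit 145], nat_lit 0), ([nat_lit 127, nat_lit 37, nat_lit 127, nat_lit 19], nat_lit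 0), ([nat_lit 181, nat_lit 37, nat_lit 181, nat_lit 199, nat_lit 55, nat_lit 199], nat_lit 0), ([nat_lit 163, nat_lit 145, nat_lit 37, nat_lit 163, nat_lit 145, nat_lit 163, nat_lit 37, nat_lit 145], nat_lit 0)]⟩,
  ⟨nat_lit 55, nat_lit 1, [([nat_lit 55], nat_lit 0), ([nat_lit 19, nat_lit 55, nat_lit 19], nat_lit 0), ([nat_lit 109, nat_lit 37, nat_lit 91], nat_lit 0), ([nat_lit 199, nat_lit 37, nat_lit 181, nat_lit 37, nat_lit 181, nat_lit 199], nat_lit 0), ([nat_lit 127, nat_lit 55, nat_lit 73, nat_lit 127], nat_lit 0), ([nat_lit 37, nat_lit 55, nat_lit 37], nat_lit 0), ([nat_lit 91, nat_lit 37, nat_lit 109, nat_lit 37], nat_lit 0), ([nat_lit 145, nat_lit 37, nat_lit 145, nat_lit 19, nat_lit 109, nat_lit 145], nat_lit 0), ([nat_lit 73, nat_lit 55, nat_lit 73], nat_lit 0), ([nat_lit 73, nat_lit 181, nat_lit 91, nat_lit 181, nat_lit 109, nat_lit 181], nat_lit 0), ([nat_lit 73, nat_lit 127, nat_lit 55, nat_lit 127], nat_lit 0), ([nat_lit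 73, nat_lit 109, nat_lit 163, nat_lit 109, nat_lit 163], nat_lit 0), ([nat_lit 181, nat_lit 199, nat_lit 37, nat_lit 199, nat_lit 181, nat_lit 37], nat_lit 0), ([nat_lit 181, nat_lit 127, nat_lit 181, nat_lit 19, nat_lit 55, nat_lit 145, nat_lit 19], nat_lit 0)]⟩,
  ⟨nat_lit 73, nat_lit 1, [([nat_lit 73], nat_lit 0), ([nat_lit 91, nat_lit 19, nat_lit 109], nat_lit 0), ([nat_lit 19, nat_lit 73, nat_lit 19], nat_lit 0), ([nat_lit 37, nat_lit 73, nat_lit 37], nat_lit 0), ([nat_lit 55, nat_lit 73, nat_lit 55], nat_lit 0), ([nat_lit 127, nat_lit 55, nat_lit 127, nat_lit 55], nat_lit 0), ([nat_lit 109, nat_lit 163, nat_lit 109, nat_lit 163, nat_lit 55], nat_lit 0), ([nat_lit 109, nat_lit 19, nat_lit 73, nat_lit 91], nat_lit 0), ([nat_lit 91, nat_lit 73, nat_lit 109, nat_lit 19], nat_lit 0), ([nat_lit 181, nat_lit 145, nat_lit 37, nat_lit 199, nat_lit 145, nat_lit 199, nat_lit 37, nat_lit 91], nat_lit 0)]⟩,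
  ⟨nat_lit 91, nat_lit 1, [([nat_lit 109], nat_lit 0), ([nat_lit 91, nat_lit 91], nat_lit 0), ([nat_lit 19, nat_lit 109, nat_lit 73], nat_lit 0), ([nat_lit 181, nat_lit 109, nat_lit 181, nat_lit 55, nat_lit 73, nat_lit 181], nat_lit 0), ([nat_lit 55, nat_lit 109, nat_lit 37], nat_lit 0), ([nat_lit 127, nat_lit 91, nat_lit 127, nat_lit 91, nat_lit 127], nat_lit 0), ([nat_lit 37, nat_lit 109, nat_lit 37, nat_lit 55], nat_lit 0), ([nat_lit 145, nat_lit 19, nat_lit 145, nat_lit 109, nat_lit 127], nat_lit 0), ([nat_lit 73, nat_lit 109, nat_lit 19, nat_lit 73], nat_lit 0), ([nat_lit 37, nat_lit 181, nat_lit 163, nat_lit 181, nat_lit 163, nat_lit 19], nat_lit 0)]⟩,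
  ⟨nat_lit 109, nat_lit 1, [([nat_lit 91], nat_lit 0), ([nat_lit 163, nat_lit 55, nat_lit 73, nat_lit 109, nat_lit 163], nat_lit 0), ([nat_lit 73, nat_lit 91, nat_lit 19], nat_lit 0), ([nat_lit 37, nat_lit 91, nat_lit 55], nat_lit 0), ([nat_lit 145, nat_lit 55, nat_lit 145, nat_lit 37, nat_lit 145, nat_lit 19], nat_lit 0), ([nat_lit 127, nat_lit 91, nat_lit 145, nat_lit 19, nat_lit 145], nat_lit 0), ([nat_lit 181, nat_lit 55, nat_lit 73, nat_lit 181, nat_lit 91, nat_lit 181], nat_lit 0), ([nat_lit 19, nat_lit 73, nat_lit 91, nat_lit 73], nat_lit 0), ([nat_lit 163, nat_lit 109, nat_lit 163, nat_lit 55, nat_lit 73], nat_lit 0), ([nat_lit 37, nat_lit 55, nat_lit 91, nat_lit 37], nat_lit 0)]⟩,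
  ⟨nat_lit 127, nat_lit 1, [([nat_lit 127], nat_lit 0), ([nat_lit 37, nat_lit 127, nat_lit 19, nat_lit 37], nat_lit 0), ([nat_lit 91, nat_lit 145, nat_lit 19, nat_lit 145, nat_lit 109], nat_lit 0), ([nat_lit 181, nat_lit 19, nat_lit 55, nat_lit 145, nat_lit 19, nat_lit 55, nat_lit 181], nat_lit 0), ([nat_lit 55, nat_lit 127, nat_lit 55, nat_lit 73], nat_lit 0), ([nat_lit 91, nat_lit 127, nat_lit 91, nat_lit 127, nat_lit 91], nat_lit 0), ([nat_lit 55, nat_lit 73, nat_lit 127, nat_lit 55], nat_lit 0)]⟩,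
  ⟨nat_lit 145, nat_lit 1, [([nat_lit 145], nat_lit 0), ([nat_lit 109, nat_lit 127, nat_lit 91, nat_lit 145, nat_lit 19], nat_lit 0), ([nat_lit 199, nat_lit 37, nat_lit 91, nat_lit 73, nat_lit 181, nat_lit 145, nat_lit 37, nat_lit 199], nat_lit 0), ([nat_lit 55, nat_lit 145, nat_lit 37, nat_lit 145, nat_lit 19, nat_lit 109], nat_lit 0), ([nat_lit 19, nat_lit 145, nat_lit 109, nat_lit 127, nat_lit 91], nat_lit 0), ([nat_lit 37, nat_lit 145, nat_lit 19, nat_lit 109, nat_lit 145, nat_lit 55], nat_lit 0), ([nat_lit 19, nat_lit 109, nat_lit 145, nat_lit 55, nat_lit 145, nat_lit 37], nat_lit 0), ([nat_lit 19, nat_lit 55, nat_lit 181, nat_lit 127, nat_lit 181, nat_lit 19, nat_lit 55], nat_lit 0), ([nat_lit 163, nat_lit 37, nat_lit 145, nat_lit 37, nat_lit 163, nat_lit 145, nat_lit 37, nat_lit 163], nat_lit 0), ([nat_lit 37, nat_lit 163, nat_lit 145, nat_lit 37, nat_lit 163, nat_lit 145, nat_lit 163, nat_lit 37], nat_lit 0)]⟩,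
  ⟨nat_lit 163, nat_lit 1, [([nat_lit 163], nat_lit 0), ([nat_lit 199, nat_lit 163, nat_lit 199], nat_lit 0), ([nat_lit 109, nat_lit 163, nat_lit 55, nat_lit 73, nat_lit 109], nat_lit 0), ([nat_lit 55, nat_lit 73, nat_lit 109, nat_lit 163, nat_lit 109], nat_lit 0), ([nat_lit 145, nat_lit 37, nat_lit 163, nat_lit 145, nat_lit 163, nat_lit 37, nat_lit 145, nat_lit 37], nat_lit 0), ([nat_lit 181, nat_lit 163, nat_lit 19, nat_lit 91, nat_lit 37, nat_lit 181], nat_lit 0), ([nat_lit 19, nat_lit 91, nat_lit 37, nat_lit 181, nat_lit 163, nat_lit 181], nat_lit 0), ([nat_lit 37, nat_lit 145, nat_lit 37, nat_lit 163, nat_lit 145, nat_lit 37, nat_lit 163, nat_lit 145], nat_lit 0)]⟩,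
  ⟨nat_lit 181, nat_lit 1, [([nat_lit 181], nat_lit 0), ([nat_lit 163, nat_lit 19, nat_lit 91, nat_lit 37, nat_lit 181, nat_lit 163], nat_lit 0), ([nat_lit 109, nat_lit 181, nat_lit 55, nat_lit 73, nat_lit 181, nat_lit 91], nat_lit 0), ([nat_lit 163, nat_lit 181, nat_lit 163, nat_lit 19, nat_lit 91, nat_lit 37], nat_lit 0), ([nat_lit 127, nat_lit 181, nat_lit 19, nat_lit 55, nat_lit 145, nat_lit 19, nat_lit 55], nat_lit 0), ([nat_lit 145, nat_lit 37, nat_lit 199, nat_lit 145, nat_lit 199, nat_lit 37, nat_lit 91, nat_lit 73], nat_lit 0), ([nat_lit 91, nat_lit 181, nat_lit 109, nat_lit 181, nat_lit 55, nat_lit 73], nat_lit 0), ([nat_lit 199, nat_lit 37, nat_lit 199, nat_lit 181, nat_lit 37, nat_lit 55], nat_lit 0), ([nat_lit 37, nat_lit 55, nat_lit 181, nat_lit 199, nat_lit 37, nat_lit 199], nat_lit 0), ([nat_lit 55, nat_lit 73, nat_lit 181, nat_lit 91, nat_lit 181, nat_lit 109], nat_lit 0), ([nat_lit 19, nat_lit 55, nat_lit 145, nat_lit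 19, nat_lit 55, nat_lit 181, nat_lit 127], nat_lit 0), ([nat_lit 199, nat_lit 55, nat_lit 199, nat_lit 37, nat_lit 181, nat_lit 37], nat_lit 0)]⟩,
  ⟨nat_lit 199, nat_lit 0, [([nat_lit 199], nat_lit 0), ([nat_lit 163, nat_lit 199, nat_lit 163], nat_lit 0), ([nat_lit 19, nat_lit 199, nat_lit 19, nat_lit 199, nat_lit 19], nat_lit 0), ([nat_lit 145, nat_lit 199, nat_lit 37, nat_lit 91, nat_lit 73, nat_lit 181, nat_lit 145, nat_lit 37], nat_lit 0), ([nat_lit 37, nat_lit 199, nat_lit 181, nat_lit 37, nat_lit 55, nat_lit 181], nat_lit 0), ([nat_lit 181, nat_lit 37, nat_lit 55, nat_lit 181, nat_lit 199, nat_lit 37], nat_lit 0), ([nat_lit 55, nat_lit 199, nat_lit 37, nat_lit 181, nat_lit 37, nat_lit 181], nat_lit 0), ([nat_lit 37, nat_lit 181, nat_lit 37, nat_lit 181, nat_lit 199, nat_lit 55], nat_lit 0), ([nat_lit 37, nat_lit 91, nat_lit 73, nat_lit 181, nat_lit 145, nat_lit 37, nat_lit 199, nat_lit 145], nat_lit 0)]⟩]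

noncomputable def erots : List (List ℕ × ℕ) := []

noncomputable def gens : List ℕ := [nat_lit 19, nat_lit 37, nat_lit 55, nat_lit 73, nat_lit 91, nat_lit 109, nat_lit 127, nat_lit 145, nat_lit 163, nat_lit 181, nat_lit 199]

noncomputable def chk : ℕ → Bool := chkRow0 row (nat_lit 100) (nat_lit 0x7f) (nat_lit 0x3f80) (nat_lit 14) (nat_lit 0xf) (nat_lit 0) (nat_lit 0x7f) (nat_lit 7) (nat_lit 0xff) (nat_lit 0x78000) [] cols gens

theorem b0 : allR chk 7 0 = true := by decide +kernel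

noncomputable def T : CT := ⟨row, nat_lit 100, nat_lit 100, nat_lit 0x7f, nat_lit 0x3f80, nat_lit 14, nat_lit 0xf, nat_lit 0, nat_lit 0x7f, nat_lit 7, nat_lit 0xff, nat_lit 0x78000, nat_lit 217, nat_lit 217, nat_lit 0, nat_lit 9, [], cols, erots, gens⟩

theorem all : ∀ c < 100, chk c = true := fun c hc =>
  allR_glue (d := 7) (n := 1) (forall_lt_succ' forall_lt_zero' b0) c (lt_of_lt_of_le hc (by norm_num))

/-- the relators used -/
def R : List (List ℕ) := [[nat_lit 0, nat_lit 0],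
  [nat_lit 1, nat_lit 1],
  [nat_lit 0, nat_lit 1, nat_lit 0, nat_lit 1],
  [nat_lit 2, nat_lit 2],
  [nat_lit 0, nat_lit 2, nat_lit 0, nat_lit 2],
  [nat_lit 1, nat_lit 2, nat_lit 1, nat_lit 2],
  [nat_lit 3, nat_lit 3],
  [nat_lit 0, nat_lit 3, nat_lit 0, nat_lit 3],
  [nat_lit 1, nat_lit 3, nat_lit 1, nat_lit 3],
  [nat_lit 2, nat_lit 3, nat_lit 2, nat_lit 3],
  [nat_lit 4, nat_lit 5],
  [nat_lit 4, nat_lit 4, nat_lit 4],
  [nat_lit 0, nat_lit 5, nat_lit 3, nat_lit 4],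
  [nat_lit 1, nat_lit 4, nat_lit 2, nat_lit 5],
  [nat_lit 0, nat_lit 3, nat_lit 4, nat_lit 3, nat_lit 5],
  [nat_lit 1, nat_lit 2, nat_lit 4, nat_lit 1, nat_lit 5],
  [nat_lit 6, nat_lit 6],
  [nat_lit 0, nat_lit 1, nat_lit 6, nat_lit 1, nat_lit 6],
  [nat_lit 2, nat_lit 3, nat_lit 6, nat_lit 2, nat_lit 6],
  [nat_lit 4, nat_lit 6, nat_lit 4, nat_lit 6, nat_lit 4, nat_lit 6],
  [nat_lit 7, nat_lit 7],
  [nat_lit 0, nat_lit 7, nat_lit 5, nat_lit 6, nat_lit 4, nat_lit 7],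
  [nat_lit 0, nat_lit 5, nat_lit 7, nat_lit 2, nat_lit 7, nat_lit 1, nat_lit 7],
  [nat_lit 8, nat_lit 8],
  [nat_lit 2, nat_lit 3, nat_lit 5, nat_lit 8, nat_lit 5, nat_lit 8],
  [nat_lit 1, nat_lit 7, nat_lit 1, nat_lit 8, nat_lit 7, nat_lit 1, nat_lit 8, nat_lit 7, nat_lit 8],
  [nat_lit 9, nat_lit 9],
  [nat_lit 0, nat_lit 4, nat_lit 1, nat_lit 9, nat_lit 8, nat_lit 9, nat_lit 8],
  [nat_lit 2, nat_lit 3, nat_lit 9, nat_lit 4, nat_lit 9, nat_lit 5, nat_lit 9],
  [nat_lit 0, nat_lit 2, nat_lit 7, nat_lit 0, nat_lit 2, nat_lit 9, nat_lit 6, nat_lit 9],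
  [nat_lit 10, nat_lit 10],
  [nat_lit 8, nat_lit 10, nat_lit 8, nat_lit 10],
  [nat_lit 0, nat_lit 10, nat_lit 0, nat_lit 10, nat_lit 0, nat_lit 10],
  [nat_lit 1, nat_lit 2, nat_lit 9, nat_lit 10, nat_lit 1, nat_lit 10, nat_lit 9],
  [nat_lit 1, nat_lit 9, nat_lit 1, nat_lit 9, nat_lit 10, nat_lit 2, nat_lit 10],
  [nat_lit 1, nat_lit 4, nat_lit 3, nat_lit 9, nat_lit 7, nat_lit 1, nat_lit 10, nat_lit 7, nat_lit 10]]

theorem cert : Cert T (R.map fun r => (r, 0)) ([0, 1, 2, 3, 4, 5, 6, 7, 8, 9].map fun y => (y, 0)) 19 18 [0, 1, 2, 3, 4, 5, 6, 7, 8, 9, 10] :=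
  ⟨by decide +kernel, ⟨[[(0, 0), (12, 0), (2, 0), (17, 0), (32, 0), (7, 0), (4, 0), (14, 0), (27, 0), (21, 0), (22, 0), (29, 0)], [(1, 0), (2, 1), (33, 4), (17, 3), (5, 0), (22, 5), (13, 0), (15, 3), (8, 0), (34, 2), (25, 5), (17, 1), (34, 0), (25, 2)], [(3, 0), (4, 1), (13, 2), (34, 5), (18, 3), (5, 1), (15, 1), (22, 3), (9, 0), (28, 0), (18, 0), (24, 0), (33, 1), (29, 4)], [(6, 0), (12, 2), (7, 1), (8, 1), (9, 1), (18, 1), (24, 1), (14, 3), (14, 1), (35, 2)], [(10, 0), (11, 0), (12, 3), (28, 3), (13, 1), (19, 0), (15, 2), (21, 4), (14, 2), (27, 1)], [(10, 1), (24, 4), (12, 1), (13, 3), (22, 1), (21, 2), (28, 5), (14, 4), (24, 2), (15, 4)], [(16, 0), (17, 2), (21, 3), (29, 6), (18, 2), (19, 1), (18, 4)], [(20, 0), (21, 1), (35, 7), (22, 2), (21, 5), (22, 4), (22, 6), (29, 2), (25, 7), (25, 1)], [(23, 0), (31, 0), (24, 3), (24, 5), (25, 3), (27, 4), (27, 6), (25, 8)], [(26, 0), (27, 5), (28, 4), (27, 3), (29, 5), (35, 3), (28, 2),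 (33, 2), (33, 6), (28, 6), (29, 7), (34, 3)], [(30, 0), (31, 1), (32, 1), (35, 6), (33, 3), (33, 5), (34, 4), (34, 6), (35, 8)]], [], by decide +kernel⟩, by decide +kernel, Or.inl ⟨rfl, all⟩⟩

theorem bound {Γ : Type*} [Group Γ] {x : ℕ → Γ} (hR : ∀ r ∈ R, ev x r = 1) {n : ℕ}
    (h : CardLe x [0, 1, 2, 3, 4, 5, 6, 7, 8, 9] n) : CardLe x [0, 1, 2, 3, 4, 5, 6, 7, 8, 9, 10] (100 * n) :=
  cert.cardLe rfl hR h

end Cfsg.Agent.L0.HSPc9
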