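import Cfsg.Agent.L0.TabPres
import Cfsg.Agent.H9.OutHS
import Cfsg.Agent.L0.HS.Pc0
import Cfsg.Agent.L0.HS.Pc1
import Cfsg.Agent.L0.HS.Pc2
import Cfsg.Agent.L0.HS.Pc3
import Cfsg.Agent.L0.HS.Pc4
import Cfsg.Agent.L0.HS.Pc5
import Cfsg.Agent.L0.HS.Pc6
import Cfsg.Agent.L0.HS.Pc7
import Cfsg.Agent.L0.HS.Pc8
import Cfsg.Agent.L0.HS.Pc9

/-! A presentation on strong generators. -/

set_option autoImplicit false
set_option maxRecDepth 100000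

namespace Cfsg.Agent.L0.HSPres

/-- the generators as words -/
def W : List (List ℕ) := [[nat_lit 0, nat_lit 11, nat_lit 11, nat_lit 12, nat_lit 0],
  [nat_lit 21, nat_lit 22, nat_lit 22, nat_lit 28, nat_lit 10],
  [nat_lit 30, nat_lit 10, nat_lit 25, nat_lit 11, nat_lit 17],
  [nat_lit 23, nat_lit 4, nat_lit 4, nat_lit 29, nat_lit 26],
  [nat_lit 12, nat_lit 7, nat_lit 28, nat_lit 29, nat_lit 27],
  [nat_lit 28, nat_lit 29, nat_lit 27, nat_lit 12, nat_lit 7],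
  [nat_lit 0, nat_lit 6, nat_lit 8, nat_lit 5, nat_lit 10, nat_lit 0],
  [nat_lit 4, nat_lit 15, nat_lit 4, nat_lit 14, nat_lit 6, nat_lit 1],
  [nat_lit 22, nat_lit 3, nat_lit 7, nat_lit 30, nat_lit 19, nat_lit 1],
  [nat_lit 7, nat_lit 25, nat_lit 12, nat_lit 17, nat_lit 2],
  [nat_lit 7, nat_lit 20, nat_lit 28, nat_lit 11, nat_lit 12]]

/-- the relators -/
def R : List (List ℕ) := [[nat_lit 0, nat_lit 0],
  [nat_lit 1, nat_lit 1],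
  [nat_lit 0, nat_lit 1, nat_lit 0, nat_lit 1],
  [nat_lit 2, nat_lit 2],
  [nat_lit 0, nat_lit 2, nat_lit 0, nat_lit 2],
  [nat_lit 1, nat_lit 2, nat_lit 1, nat_lit 2],
  [nat_lit 3, nat_lit 3],
  [nat_lit 0, nat_lit 3, nat_lit 0, nat_lit 3],
  [nat_lit 1, nat_lit 3, nat_lit 1, nat_lit 3],
  [nat_lit 2, nat_lit 3, nat_lit 2, nat_lit 3],
  [nat_lit 4, nat_lit 5],
  [nat_lit 5, nat_lit 4],
  [nat_lit 4, nat_lit 4, nat_lit 4],
  [nat_lit 0, nat_lit 5, nat_lit 3, nat_lit 4],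
  [nat_lit 1, nat_lit 4, nat_lit 2, nat_lit 5],
  [nat_lit 0, nat_lit 3, nat_lit 4, nat_lit 3, nat_lit 5],
  [nat_lit 1, nat_lit 2, nat_lit 4, nat_lit 1, nat_lit 5],
  [nat_lit 6, nat_lit 6],
  [nat_lit 0, nat_lit 1, nat_lit 6, nat_lit 1, nat_lit 6],
  [nat_lit 2, nat_lit 3, nat_lit 6, nat_lit 2, nat_lit 6],
  [nat_lit 4, nat_lit 6, nat_lit 4, nat_lit 6, nat_lit 4, nat_lit 6],
  [nat_lit 7, nat_lit 7],
  [nat_lit 0, nat_lit 7, nat_lit 5, nat_lit 6, nat_lit 4, nat_lit 7],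
  [nat_lit 0, nat_lit 5, nat_lit 7, nat_lit 2, nat_lit 7, nat_lit 1, nat_lit 7],
  [nat_lit 8, nat_lit 8],
  [nat_lit 2, nat_lit 3, nat_lit 5, nat_lit 8, nat_lit 5, nat_lit 8],
  [nat_lit 1, nat_lit 7, nat_lit 1, nat_lit 8, nat_lit 7, nat_lit 1, nat_lit 8, nat_lit 7, nat_lit 8],
  [nat_lit 9, nat_lit 9],
  [nat_lit 0, nat_lit 4, nat_lit 1, nat_lit 9, nat_lit 8, nat_lit 9, nat_lit 8],
  [nat_lit 2, nat_lit 3, nat_lit 9, nat_lit 4, nat_lit 9, nat_lit 5, nat_lit 9],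
  [nat_lit 0, nat_lit 2, nat_lit 7, nat_lit 0, nat_lit 2, nat_lit 9, nat_lit 6, nat_lit 9],
  [nat_lit 10, nat_lit 10],
  [nat_lit 8, nat_lit 10, nat_lit 8, nat_lit 10],
  [nat_lit 0, nat_lit 10, nat_lit 0, nat_lit 10, nat_lit 0, nat_lit 10],
  [nat_lit 1, nat_lit 2, nat_lit 9, nat_lit 10, nat_lit 1, nat_lit 10, nat_lit 9],
  [nat_lit 1, nat_lit 9, nat_lit 1, nat_lit 9, nat_lit 10, nat_lit 2, nat_lit 10],
  [nat_lit 1, nat_lit 4, nat_lit 3, nat_lit 9, nat_lit 7, nat_lit 1, nat_lit 10, nat_lit 7, nat_lit 10]]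

/-- the stabiliser chain -/
noncomputable def lv : List (List (List ℕ) × ℕ × List (ℕ × List ℕ)) := [([[nat_lit 0], [nat_lit 1], [nat_lit 2], [nat_lit 3], [nat_lit 4], [nat_lit 5], [nat_lit 6], [nat_lit 7], [nat_lit 8], [nat_lit 9], [nat_lit 10]], nat_lit 0, [(nat_lit 0, []), (nat_lit 1, [nat_lit 10, nat_lit 6, nat_lit 7, nat_lit 8, nat_lit 7, nat_lit 0, nat_lit 10]), (nat_lit 2, [nat_lit 8, nat_lit 6, nat_lit 10, nat_lit 3, nat_lit 7, nat_lit 8, nat_lit 6, nat_lit 3, nat_lit 10]), (nat_lit 3, [nat_lit 10, nat_lit 6, nat_lit 8, nat_lit 3, nat_lit 7, nat_lit 3, nat_lit 10]), (nat_lit 4, [nat_lit 10, nat_lit 6, nat_lit 8, nat_lit 5, nat_lit 6, nat_lit 0, nat_lit 10]), (nat_lit 5, [nat_lit 10, nat_lit 4, nat_lit 7, nat_lit 8, nat_lit 6, nat_lit 0, nat_lit 10]), (nat_lit 6, [nat_lit 9, nat_lit 10, nat_lit 6, nat_lit 8, nat_lit 5, nat_lit 6, nat_lit 0, nat_lit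 10]), (nat_lit 7, [nat_lit 10, nat_lit 4, nat_lit 6, nat_lit 8, nat_lit 7, nat_lit 3, nat_lit 10]), (nat_lit 8, [nat_lit 6, nat_lit 10, nat_lit 3, nat_lit 7, nat_lit 8, nat_lit 6, nat_lit 3, nat_lit 10]), (nat_lit 9, [nat_lit 0, nat_lit 10, nat_lit 6, nat_lit 9, nat_lit 8, nat_lit 6, nat_lit 0, nat_lit 10]), (nat_lit 10, [nat_lit 10, nat_lit 6, nat_lit 8, nat_lit 4, nat_lit 6, nat_lit 10]), (nat_lit 11, [nat_lit 10, nat_lit 3, nat_lit 7, nat_lit 8, nat_lit 6, nat_lit 3, nat_lit 10]), (nat_lit 12, [nat_lit 10, nat_lit 9, nat_lit 7, nat_lit 8, nat_lit 4, nat_lit 6, nat_lit 0, nat_lit 10]), (nat_lit 13, [nat_lit 1, nat_lit 10, nat_lit 6, nat_lit 8, nat_lit 7, nat_lit 6, nat_lit 10]), (nat_lit 14, [nat_lit 9, nat_lit 10, nat_lit 6, nat_lit 8, nat_lit 7, nat_lit 6, nat_lit 10]), (nat_lit 15, [nat_lit 10, nat_lit 6, nat_lit 8, nat_lit 7, nat_lit 6, nat_lit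 10]), (nat_lit 16, [nat_lit 3, nat_lit 10, nat_lit 6, nat_lit 8, nat_lit 4, nat_lit 6, nat_lit 10]), (nat_lit 17, [nat_lit 1, nat_lit 10, nat_lit 6, nat_lit 8, nat_lit 4, nat_lit 6, nat_lit 10]), (nat_lit 18, [nat_lit 10, nat_lit 6, nat_lit 8, nat_lit 9, nat_lit 6, nat_lit 0, nat_lit 10]), (nat_lit 19, [nat_lit 2, nat_lit 10, nat_lit 6, nat_lit 8, nat_lit 4, nat_lit 6, nat_lit 10]), (nat_lit 20, [nat_lit 10, nat_lit 5, nat_lit 7, nat_lit 8, nat_lit 6, nat_lit 3, nat_lit 10]), (nat_lit 21, [nat_lit 10, nat_lit 6, nat_lit 9, nat_lit 8, nat_lit 6, nat_lit 0, nat_lit 10]), (nat_lit 22, [nat_lit 10, nat_lit 9, nat_lit 6, nat_lit 8, nat_lit 7, nat_lit 0, nat_lit 10]), (nat_lit 23, [nat_lit 6, nat_lit 7, nat_lit 8, nat_lit 7, nat_lit 0, nat_lit 10]), (nat_lit 24, [nat_lit 4, nat_lit 6, nat_lit 8, nat_lit 7, nat_lit 3, nat_lit 10]), (nat_lit 25, [nat_lit 7,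 nat_lit 8, nat_lit 6, nat_lit 0, nat_lit 10]), (nat_lit 26, [nat_lit 8, nat_lit 3, nat_lit 7, nat_lit 3, nat_lit 10]), (nat_lit 27, [nat_lit 8, nat_lit 5, nat_lit 6, nat_lit 10]), (nat_lit 28, [nat_lit 9, nat_lit 7, nat_lit 8, nat_lit 6, nat_lit 0, nat_lit 10]), (nat_lit 29, [nat_lit 2, nat_lit 8, nat_lit 6, nat_lit 10]), (nat_lit 30, [nat_lit 8, nat_lit 4, nat_lit 6, nat_lit 10]), (nat_lit 31, [nat_lit 6, nat_lit 8, nat_lit 7, nat_lit 0, nat_lit 10]), (nat_lit 32, [nat_lit 7, nat_lit 8, nat_lit 4, nat_lit 6, nat_lit 0, nat_lit 10]), (nat_lit 33, [nat_lit 7, nat_lit 2, nat_lit 8, nat_lit 6, nat_lit 10]), (nat_lit 34, [nat_lit 8, nat_lit 7, nat_lit 8, nat_lit 6, nat_lit 3, nat_lit 10]), (nat_lit 35, [nat_lit 8, nat_lit 7, nat_lit 0, nat_lit 10]), (nat_lit 36, [nat_lit 6, nat_lit 8, nat_lit 5, nat_lit 6, nat_lit 0, nat_lit 10]), (nat_lit 37, [nat_lit 6,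 nat_lit 8, nat_lit 3, nat_lit 7, nat_lit 3, nat_lit 10]), (nat_lit 38, [nat_lit 7, nat_lit 8, nat_lit 7, nat_lit 3, nat_lit 10]), (nat_lit 39, [nat_lit 8, nat_lit 6, nat_lit 3, nat_lit 10]), (nat_lit 40, [nat_lit 5, nat_lit 6, nat_lit 8, nat_lit 5, nat_lit 6, nat_lit 10]), (nat_lit 41, [nat_lit 8, nat_lit 7, nat_lit 8, nat_lit 7, nat_lit 0, nat_lit 10]), (nat_lit 42, [nat_lit 4, nat_lit 7, nat_lit 8, nat_lit 6, nat_lit 3, nat_lit 10]), (nat_lit 43, [nat_lit 8, nat_lit 7, nat_lit 6, nat_lit 10]), (nat_lit 44, [nat_lit 8, nat_lit 6, nat_lit 10]), (nat_lit 45, [nat_lit 6, nat_lit 8, nat_lit 7, nat_lit 6, nat_lit 10]), (nat_lit 46, [nat_lit 6, nat_lit 8, nat_lit 7, nat_lit 3, nat_lit 10]), (nat_lit 47, [nat_lit 7, nat_lit 6, nat_lit 8, nat_lit 7, nat_lit 0, nat_lit 10]), (nat_lit 48, [nat_lit 7, nat_lit 8, nat_lit 6, nat_lit 3, nat_lit 10]), (nat_lit 49,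 [nat_lit 9, nat_lit 6, nat_lit 8, nat_lit 7, nat_lit 0, nat_lit 10]), (nat_lit 50, [nat_lit 8, nat_lit 7, nat_lit 3, nat_lit 10]), (nat_lit 51, [nat_lit 7, nat_lit 6, nat_lit 8, nat_lit 7, nat_lit 3, nat_lit 10]), (nat_lit 52, [nat_lit 6, nat_lit 8, nat_lit 5, nat_lit 6, nat_lit 10]), (nat_lit 53, [nat_lit 8, nat_lit 4, nat_lit 6, nat_lit 0, nat_lit 10]), (nat_lit 54, [nat_lit 6, nat_lit 8, nat_lit 4, nat_lit 6, nat_lit 10]), (nat_lit 55, [nat_lit 7, nat_lit 8, nat_lit 7, nat_lit 0, nat_lit 10]), (nat_lit 56, [nat_lit 8, nat_lit 6, nat_lit 0, nat_lit 10]), (nat_lit 57, [nat_lit 8, nat_lit 5, nat_lit 6, nat_lit 0, nat_lit 10]), (nat_lit 58, [nat_lit 5, nat_lit 7, nat_lit 8, nat_lit 6, nat_lit 3, nat_lit 10]), (nat_lit 59, [nat_lit 1, nat_lit 7, nat_lit 8, nat_lit 7, nat_lit 0, nat_lit 10]), (nat_lit 60, [nat_lit 4, nat_lit 7, nat_lit 8, nat_lit 6, nat_lit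 0, nat_lit 10]), (nat_lit 61, [nat_lit 3, nat_lit 7, nat_lit 8, nat_lit 6, nat_lit 3, nat_lit 10]), (nat_lit 62, [nat_lit 7, nat_lit 8, nat_lit 7, nat_lit 6, nat_lit 10]), (nat_lit 63, [nat_lit 4, nat_lit 6, nat_lit 0, nat_lit 10]), (nat_lit 64, [nat_lit 7, nat_lit 6, nat_lit 10]), (nat_lit 65, [nat_lit 6, nat_lit 0, nat_lit 10]), (nat_lit 66, [nat_lit 6, nat_lit 3, nat_lit 10]), (nat_lit 67, [nat_lit 6, nat_lit 10]), (nat_lit 68, [nat_lit 10]), (nat_lit 69, [nat_lit 7, nat_lit 0, nat_lit 10]), (nat_lit 70, [nat_lit 0, nat_lit 10]), (nat_lit 71, [nat_lit 4, nat_lit 6, nat_lit 10]), (nat_lit 72, [nat_lit 5, nat_lit 6, nat_lit 10]), (nat_lit 73, [nat_lit 9, nat_lit 10]), (nat_lit 74, [nat_lit 7, nat_lit 3, nat_lit 10]), (nat_lit 75, [nat_lit 3, nat_lit 7, nat_lit 3, nat_lit 10]), (nat_lit 76, [nat_lit 3, nat_lit 10]), (nat_lit 77, [nat_lit 5, nat_lit 6,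 nat_lit 0, nat_lit 10]), (nat_lit 78, [nat_lit 6, nat_lit 9, nat_lit 10]), (nat_lit 79, [nat_lit 6, nat_lit 10, nat_lit 8, nat_lit 7, nat_lit 3, nat_lit 10]), (nat_lit 80, [nat_lit 7, nat_lit 9, nat_lit 8, nat_lit 6, nat_lit 0, nat_lit 10]), (nat_lit 81, [nat_lit 10, nat_lit 8, nat_lit 7, nat_lit 3, nat_lit 10]), (nat_lit 82, [nat_lit 4, nat_lit 6, nat_lit 8, nat_lit 9, nat_lit 6, nat_lit 0, nat_lit 10]), (nat_lit 83, [nat_lit 4, nat_lit 7, nat_lit 9, nat_lit 8, nat_lit 6, nat_lit 0, nat_lit 10]), (nat_lit 84, [nat_lit 9, nat_lit 7, nat_lit 8, nat_lit 6, nat_lit 3, nat_lit 10]), (nat_lit 85, [nat_lit 8, nat_lit 7, nat_lit 9, nat_lit 0, nat_lit 10]), (nat_lit 86, [nat_lit 8, nat_lit 9, nat_lit 6, nat_lit 0, nat_lit 10]), (nat_lit 87, [nat_lit 7, nat_lit 8, nat_lit 9, nat_lit 6, nat_lit 0, nat_lit 10]), (nat_lit 88, [nat_lit 6, nat_lit 9, nat_lit 8, nat_lit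 6, nat_lit 0, nat_lit 10]), (nat_lit 89, [nat_lit 7, nat_lit 8, nat_lit 7, nat_lit 9, nat_lit 0, nat_lit 10]), (nat_lit 90, [nat_lit 9, nat_lit 7, nat_lit 8, nat_lit 4, nat_lit 6, nat_lit 0, nat_lit 10]), (nat_lit 91, [nat_lit 6, nat_lit 8, nat_lit 9, nat_lit 6, nat_lit 0, nat_lit 10]), (nat_lit 92, [nat_lit 1, nat_lit 7, nat_lit 9, nat_lit 8, nat_lit 6, nat_lit 0, nat_lit 10]), (nat_lit 93, [nat_lit 3, nat_lit 7, nat_lit 8, nat_lit 7, nat_lit 9, nat_lit 0, nat_lit 10]), (nat_lit 94, [nat_lit 9, nat_lit 8, nat_lit 6, nat_lit 0, nat_lit 10]), (nat_lit 95, [nat_lit 9, nat_lit 0, nat_lit 10]), (nat_lit 96, [nat_lit 9, nat_lit 6, nat_lit 0, nat_lit 10]), (nat_lit 97, [nat_lit 9, nat_lit 7, nat_lit 6, nat_lit 10]), (nat_lit 98, [nat_lit 10, nat_lit 7, nat_lit 3, nat_lit 10]), (nat_lit 99, [nat_lit 7, nat_lit 9, nat_lit 0, nat_lit 10])]),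
  ([[nat_lit 0], [nat_lit 1], [nat_lit 2], [nat_lit 3], [nat_lit 4], [nat_lit 5], [nat_lit 6], [nat_lit 7], [nat_lit 8], [nat_lit 9]], nat_lit 1, [(nat_lit 1, []), (nat_lit 2, [nat_lit 8, nat_lit 7, nat_lit 1, nat_lit 0, nat_lit 9]), (nat_lit 3, [nat_lit 5, nat_lit 9]), (nat_lit 4, [nat_lit 3, nat_lit 9]), (nat_lit 5, [nat_lit 2, nat_lit 9]), (nat_lit 6, [nat_lit 0, nat_lit 9]), (nat_lit 7, [nat_lit 2, nat_lit 1, nat_lit 9]), (nat_lit 8, [nat_lit 7, nat_lit 1, nat_lit 0, nat_lit 9]), (nat_lit 9, [nat_lit 1, nat_lit 0, nat_lit 9]), (nat_lit 10, [nat_lit 5, nat_lit 2, nat_lit 9]), (nat_lit 11, [nat_lit 9, nat_lit 2, nat_lit 1, nat_lit 9]), (nat_lit 12, [nat_lit 3, nat_lit 1, nat_lit 9]), (nat_lit 13, [nat_lit 7, nat_lit 9]), (nat_lit 14, [nat_lit 4, nat_lit 9]), (nat_lit 15, [nat_lit 3, nat_lit 2, nat_lit 9]), (nat_lit 16, [nat_lit 2, nat_lit 0, nat_lit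 9]), (nat_lit 17, [nat_lit 4, nat_lit 0, nat_lit 9]), (nat_lit 18, [nat_lit 9]), (nat_lit 19, [nat_lit 3, nat_lit 0, nat_lit 9]), (nat_lit 20, [nat_lit 9, nat_lit 1, nat_lit 9]), (nat_lit 21, [nat_lit 1, nat_lit 9]), (nat_lit 22, [nat_lit 7, nat_lit 1, nat_lit 9])]),
  ([[nat_lit 0], [nat_lit 1], [nat_lit 2], [nat_lit 3], [nat_lit 4], [nat_lit 5], [nat_lit 6], [nat_lit 7], [nat_lit 8]], nat_lit 2, [(nat_lit 2, []), (nat_lit 3, [nat_lit 3, nat_lit 7, nat_lit 8]), (nat_lit 4, [nat_lit 1, nat_lit 7, nat_lit 6, nat_lit 8]), (nat_lit 5, [nat_lit 1, nat_lit 5, nat_lit 7, nat_lit 8]), (nat_lit 6, [nat_lit 1, nat_lit 7, nat_lit 8]), (nat_lit 7, [nat_lit 5, nat_lit 7, nat_lit 8]), (nat_lit 8, [nat_lit 8]), (nat_lit 9, [nat_lit 7, nat_lit 8]), (nat_lit 10, [nat_lit 2, nat_lit 4, nat_lit 7, nat_lit 8]), (nat_lit 11, [nat_lit 6, nat_lit 8]), (nat_lit 12, [nat_lit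 7, nat_lit 6, nat_lit 8]), (nat_lit 13, [nat_lit 2, nat_lit 7, nat_lit 6, nat_lit 8]), (nat_lit 14, [nat_lit 2, nat_lit 7, nat_lit 8]), (nat_lit 15, [nat_lit 8, nat_lit 3, nat_lit 7, nat_lit 8]), (nat_lit 16, [nat_lit 2, nat_lit 1, nat_lit 7, nat_lit 8]), (nat_lit 17, [nat_lit 8, nat_lit 7, nat_lit 6, nat_lit 8]), (nat_lit 18, [nat_lit 1, nat_lit 0, nat_lit 7, nat_lit 8]), (nat_lit 19, [nat_lit 4, nat_lit 7, nat_lit 8]), (nat_lit 20, [nat_lit 4, nat_lit 6, nat_lit 8]), (nat_lit 21, [nat_lit 0, nat_lit 7, nat_lit 8]), (nat_lit 22, [nat_lit 5, nat_lit 6, nat_lit 8])]),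
  ([[nat_lit 0], [nat_lit 1], [nat_lit 2], [nat_lit 3], [nat_lit 4], [nat_lit 5], [nat_lit 6], [nat_lit 7]], nat_lit 95, [(nat_lit 95, []), (nat_lit 96, [nat_lit 2, nat_lit 7]), (nat_lit 97, [nat_lit 2, nat_lit 1, nat_lit 7]), (nat_lit 98, [nat_lit 1, nat_lit 7]), (nat_lit 99, [nat_lit 7])]),
  ([[nat_lit 0], [nat_lit 1], [nat_lit 2], [nat_lit 3], [nat_lit 4], [nat_lit 5], [nat_lit 6]], nat_lit 8, [(nat_lit 8, []), (nat_lit 11, [nat_lit 6]), (nat_lit 20, [nat_lit 4, nat_lit 6]), (nat_lit 22, [nat_lit 5, nat_lit 6])]),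
  ([[nat_lit 0], [nat_lit 1], [nat_lit 2], [nat_lit 3], [nat_lit 4], [nat_lit 5]], nat_lit 11, [(nat_lit 11, []), (nat_lit 20, [nat_lit 4]), (nat_lit 22, [nat_lit 5])]),
  ([[nat_lit 0], [nat_lit 1], [nat_lit 2], [nat_lit 3]], nat_lit 24, [(nat_lit 24, []), (nat_lit 32, [nat_lit 3, nat_lit 2]), (nat_lit 40, [nat_lit 3]), (nat_lit 60, [nat_lit 2])]),
  ([[nat_lit 0], [nat_lit 1]], nat_lit 29, [(nat_lit 29, []), (nat_lit 39, [nat_lit 1])]),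
  ([[nat_lit 0]], nat_lit 3, [(nat_lit 3, []), (nat_lit 12, [nat_lit 0])])]

theorem card_le : CardLe (PG.gen 11 R) (List.range 11) 44352000 :=
  HSPc9.bound (rel_sub (R := R) (fun _ => PG.rel) (by decide +kernel))
    (HSPc8.bound (rel_sub (R := R) (fun _ => PG.rel) (by decide +kernel))
    (HSPc7.bound (rel_sub (R := R) (fun _ => PG.rel) (by decide +kernel))
    (HSPc6.bound (rel_sub (R := R) (fun _ => PG.rel) (by decide +kernel))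
    (HSPc5.bound (rel_sub (R := R) (fun _ => PG.rel) (by decide +kernel))
    (HSPc4.bound (rel_sub (R := R) (fun _ => PG.rel) (by decide +kernel))
    (HSPc3.bound (rel_sub (R := R) (fun _ => PG.rel) (by decide +kernel))
    (HSPc2.bound (rel_sub (R := R) (fun _ => PG.rel) (by decide +kernel))
    (HSPc1.bound (rel_sub (R := R) (fun _ => PG.rel) (by decide +kernel))
    (HSPc0.bound (rel_sub (R := R) (fun _ => PG.rel) (by decide +kernel))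
    (cardLe_nil _))))))))))

theorem isPres {G : Type*} [Group G] [Finite G] {A : RAct G 100} {g : ℕ → G} (hb : A.IsBase H9.OutHS.B)
    (h : A.Tab g 32 H9.OutHS.T) (ho : Nat.card G = 44352000) : IsPres (dG g W) 11 R :=
  isPres_of_tab hb h ho (by decide +kernel) (by decide +kernel) (by decide +kernel) (lv := lv)
    (by decide +kernel) (by decide +kernel) card_le

end Cfsg.Agent.L0.HSPres
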